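import Cfsg.Agent.Lib.CT.DadeExtend.Extend
import Cfsg.Agent.Lib.CT.Integral
import Mathlib.GroupTheory.FiniteAbelian.Duality
import Mathlib.RingTheory.RootsOfUnity.AlgebraicallyClosed
import Mathlib.Analysis.Complex.Polynomial.Basic

/-!
# Extension when the Sylow intersection is central and its linear characters extend
-/

set_option autoImplicit false
set_option linter.style.haveILetI false
set_option linter.unusedSectionVars false

namespace Cfsg.Agent.DadeExtend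

open Cfsg.Agent.CT

universe u

/-- A homomorphism on a subgroup of a commutative finite group extends. -/
theorem exists_hom_extend {A : Type u} [Group A] [Finite A] (hA : ∀ a b : A, a * b = b * a)
    (H : Subgroup A) (w : H →* ℂˣ) : ∃ v : A →* ℂˣ, ∀ h : H, v h = w h := by
  letI : CommGroup A := { (inferInstance : Group A) with mul_comm := hA }
  haveI : NeZero (Monoid.exponent A : ℂ) :=
    ⟨Nat.cast_ne_zero.mpr (Monoid.exponent_ne_zero_of_finite (G := A))⟩
  obtain ⟨v, hv⟩ := MonoidHom.domRestrict_surjective (G := A) (M := ℂ) H w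
  exact ⟨v, fun h => by rw [← hv]; rfl⟩

variable {G : Type u} [Group G] [Fintype G] {p : ℕ} [hp : Fact p.Prime]

/-- A representation of `E ⊓ N` extends to the elementary group `E`. -/
theorem exists_rep_extend (N : Subgroup G) [hN : N.Normal] (hind : ∃ k : ℕ, N.index = p ^ k)
    (P : Sylow p G)
    (hcent : ∀ x ∈ (P : Subgroup G) ⊓ N, ∀ y ∈ (P : Subgroup G), x * y = y * x)
    (hlin : ∀ lam : ↥((P : Subgroup G) ⊓ N) → ℂ, Cfsg.IsCharacter ↥((P : Subgroup G) ⊓ N) lam →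
      lam 1 = 1 → ∃ μ : ↥(P : Subgroup G) → ℂ, Cfsg.IsCharacter ↥(P : Subgroup G) μ ∧ μ 1 = 1 ∧
        ∀ x : ↥((P : Subgroup G) ⊓ N), μ ⟨(x : G), x.2.1⟩ = lam x)
    (E : Subgroup G) (hEl : IsElementary p E) {n : ℕ}
    (ρ : Representation ℂ ↥(E ⊓ N) (Fin n → ℂ)) [ρ.IsIrreducible] :
    ∃ ψ : Representation ℂ E (Fin n → ℂ), ∀ d : ↥(E ⊓ N), ψ ⟨d, d.2.1⟩ = ρ d := by
  classical
  obtain ⟨x, hxc, hxcop, k, hxk⟩ := hEl
  obtain ⟨S⟩ := (inferInstance : Nonempty (Sylow p E))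
  have hxN : (x : G) ∈ N := coe_mem_of_coprime N hind (by rwa [Subgroup.orderOf_coe])
  have hcN : ∀ c : ↥(Subgroup.zpowers x), ((c : E) : G) ∈ N := fun c => by
    obtain ⟨i, hi⟩ := c.2
    rw [← hi]
    simpa using N.zpow_mem hxN i
  -- conjugate the Sylow subgroup of `E` into `P`
  obtain ⟨Q, hQ⟩ := (S.2.map E.subtype).exists_le_sylow
  obtain ⟨g, hg⟩ := MulAction.exists_smul_eq G Q P
  have hSP : ∀ s : ↥(S : Subgroup E), g * ((s : E) : G) * g⁻¹ ∈ (P : Subgroup G) := fun s => by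
    rw [← hg, Sylow.coe_subgroup_smul, Subgroup.mem_pointwise_smul_iff_inv_smul_mem]
    have : ((s : E) : G) ∈ (Q : Subgroup G) := hQ ⟨s, s.2, rfl⟩
    simpa [MulAut.conj_apply, mul_assoc] using this
  let cS : ↥(S : Subgroup E) →* ↥(P : Subgroup G) :=
    { toFun := fun s => ⟨g * ((s : E) : G) * g⁻¹, hSP s⟩
      map_one' := Subtype.ext (by simp)
      map_mul' := fun a b => Subtype.ext (by simp [mul_assoc]) }
  -- decomposition of `E`
  have hcomm : ∀ (s : ↥(S : Subgroup E)) (c : ↥(Subgroup.zpowers x)),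
      (s : E) * c = c * s := fun s c =>
    Subgroup.mem_center_iff.mp (Subgroup.zpowers_le.mpr hxc c.2) s
  let π : ↥(S : Subgroup E) × ↥(Subgroup.zpowers x) →* E :=
    { toFun := fun yi => (yi.1 : E) * yi.2
      map_one' := by simp
      map_mul' := fun a b => by
        simp only [Prod.fst_mul, Prod.snd_mul, Subgroup.coe_mul]
        calc (a.1 : E) * b.1 * ((a.2 : E) * b.2) = a.1 * ((b.1 : E) * a.2) * b.2 := by group
          _ = a.1 * ((a.2 : E) * b.1) * b.2 := by rw [hcomm]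
          _ = _ := by group }
  let e := MulEquiv.ofBijective π (elementary_decomp hxcop hxk S)
  -- elements of `S ⊓ N` are central in `E ⊓ N`
  have hcen : ∀ y : ↥(S : Subgroup E), ∀ hy : ((y : E) : G) ∈ N,
      (⟨((y : E) : G), (y : E).2, hy⟩ : ↥(E ⊓ N)) ∈ Subgroup.center ↥(E ⊓ N) := by
    intro y hy
    rw [Subgroup.mem_center_iff]
    intro d
    have hcen' : ∀ f : E, f * y = y * f := by
      intro f
      obtain ⟨⟨s, c⟩, rfl⟩ := e.surjective f
      show (s : E) * c * y = y * (s * c)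
      have h1 : (s : E) * y = y * s := by
        have := hcent _ ⟨hSP y, hN.conj_mem _ hy g⟩ _ (hSP s)
        apply Subtype.ext
        have h' : g * (((y : E) : G) * ((s : E) : G)) * g⁻¹ =
            g * (((s : E) : G) * ((y : E) : G)) * g⁻¹ := by
          simpa [mul_assoc] using this
        exact (mul_left_cancel (mul_right_cancel h')).symm
      rw [mul_assoc, ← hcomm y c, ← mul_assoc, h1, mul_assoc]
    exact Subtype.ext (congrArg (fun f : E => (f : G)) (hcen' ⟨d, d.2.1⟩))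
  haveI : Fintype ↥(E ⊓ N) := Fintype.ofFinite _
  haveI := ((isIrreducible_iff ρ).mp ‹_›).1
  -- the scalars on `S ⊓ N`, transported
  let Y : Subgroup ↥((P : Subgroup G) ⊓ N) :=
    { carrier := {q | ∃ s : ↥(S : Subgroup E), g * ((s : E) : G) * g⁻¹ = q}
      one_mem' := ⟨1, by simp⟩
      mul_mem' := fun {a b} ⟨s, hs⟩ ⟨t, ht⟩ => ⟨s * t, by
        show _ = (a : G) * (b : G)
        rw [← hs, ← ht]; simp [mul_assoc]⟩
      inv_mem' := fun {a} ⟨s, hs⟩ => ⟨s⁻¹, by
        show _ = (a : G)⁻¹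
        rw [← hs]; simp [mul_assoc]⟩ }
  have hback : ∀ q : Y, g⁻¹ * ((q : ↥((P : Subgroup G) ⊓ N)) : G) * g ∈ E ⊓ N := by
    intro q
    obtain ⟨s, hs⟩ := q.2
    refine ⟨?_, by simpa using hN.conj_mem _ q.1.2.2 g⁻¹⟩
    rw [← hs]
    simp [mul_assoc]
  let bk : Y →* ↥(E ⊓ N) :=
    { toFun := fun q => ⟨_, hback q⟩
      map_one' := Subtype.ext (by simp)
      map_mul' := fun a b => Subtype.ext (by simp [mul_assoc]) }
  have hscal : ∀ q : Y, ∃ ω : ℂˣ, ρ (bk q) = (ω : ℂ) • LinearMap.id := by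
    intro q
    obtain ⟨s, hs⟩ := q.2
    have hsN : ((s : E) : G) ∈ N := by
      have := (hback q).2
      rwa [← hs, show g⁻¹ * (g * ((s : E) : G) * g⁻¹) * g = ((s : E) : G) by group] at this
    have hq : bk q = ⟨((s : E) : G), (s : E).2, hsN⟩ := Subtype.ext (by
      show g⁻¹ * _ * g = _
      rw [← hs]; group)
    obtain ⟨ω, hω, hnorm⟩ := central_scalar ρ (hq ▸ hcen s hsN : bk q ∈ Subgroup.center _)
    exact ⟨Units.mk0 ω (fun h0 => by simp [h0] at hnorm), hω⟩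
  choose ω hω using hscal
  obtain ⟨v, hv⟩ := exists_ne (0 : Fin n → ℂ)
  have hωinj : ∀ a b : ℂˣ, (a : ℂ) • (LinearMap.id : (Fin n → ℂ) →ₗ[ℂ] _) = (b : ℂ) • LinearMap.id →
      a = b := fun a b h => Units.ext (smul_left_injective ℂ hv (LinearMap.congr_fun h v))
  let w : Y →* ℂˣ :=
    { toFun := ω
      map_one' := hωinj _ _ (by rw [← hω, map_one, map_one, Units.val_one, one_smul]; rfl)
      map_mul' := fun a b => hωinj _ _ (by
        rw [← hω, map_mul, map_mul, hω, hω, Units.val_mul]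
        refine LinearMap.ext fun u => ?_
        simp [smul_smul, mul_comm]) }
  obtain ⟨Lam, hLam⟩ := exists_hom_extend
    (fun a b => Subtype.ext (hcent a.1 a.2 b.1 b.2.1)) Y w
  obtain ⟨μ, hμ, hμ1, hμL⟩ := hlin _ (isCharacter_lin Lam) (by simp)
  obtain ⟨M, rfl⟩ := exists_hom_of_degree_one hμ hμ1
  let Ψ : ↥(S : Subgroup E) × ↥(Subgroup.zpowers x) →* Module.End ℂ (Fin n → ℂ) :=
    { toFun := fun yi => (M (cS yi.1) : ℂ) • ρ ⟨((yi.2 : E) : G), (yi.2 : E).2, hcN yi.2⟩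
      map_one' := by
        show (M (cS 1) : ℂ) • ρ ⟨_, _⟩ = 1
        rw [map_one, map_one, Units.val_one, one_smul, ← map_one ρ]
        rfl
      map_mul' := fun a b => by
        show (M (cS (a.1 * b.1)) : ℂ) • _ = _ • ρ _ * _ • ρ _
        rw [map_mul, map_mul, Units.val_mul, smul_mul_smul_comm, ← map_mul]
        rfl }
  refine ⟨Ψ.comp e.symm.toMonoidHom, fun d => ?_⟩
  obtain ⟨⟨s, c⟩, hsc⟩ := e.surjective ⟨d, d.2.1⟩
  show Ψ (e.symm ⟨d, _⟩) = ρ d
  rw [← hsc, MulEquiv.symm_apply_apply]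
  have hd : (d : G) = ((s : E) : G) * ((c : E) : G) := (congrArg (fun f : E => (f : G)) hsc).symm
  have hsN : ((s : E) : G) ∈ N := by
    have := N.mul_mem d.2.2 (N.inv_mem (hcN c))
    rwa [hd, mul_inv_cancel_right] at this
  let q : Y := ⟨⟨_, hSP s, hN.conj_mem _ hsN g⟩, s, rfl⟩
  have hMs : M (cS s) = ω q := Units.ext ((hμL q.1).trans (congrArg Units.val (hLam q)))
  have hd' : d = bk q * ⟨((c : E) : G), (c : E).2, hcN c⟩ := Subtype.ext (by
    rw [hd]
    show _ = g⁻¹ * (g * ((s : E) : G) * g⁻¹) * g * _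
    group)
  show (M (cS s) : ℂ) • ρ _ = ρ d
  conv_rhs => rw [hd', map_mul, hω q]
  rw [hMs, smul_mul_assoc]
  rfl

/-- Extension theorem. -/
theorem exists_extension_central (N : Subgroup G) [hN : N.Normal]
    (hind : ∃ k : ℕ, N.index = p ^ k) (P : Sylow p G)
    (hcent : ∀ x ∈ (P : Subgroup G) ⊓ N, ∀ y ∈ (P : Subgroup G), x * y = y * x)
    (hlin : ∀ lam : ↥((P : Subgroup G) ⊓ N) → ℂ, Cfsg.IsCharacter ↥((P : Subgroup G) ⊓ N) lam →
      lam 1 = 1 → ∃ μ : ↥(P : Subgroup G) → ℂ, Cfsg.IsCharacter ↥(P : Subgroup G) μ ∧ μ 1 = 1 ∧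
        ∀ x : ↥((P : Subgroup G) ⊓ N), μ ⟨(x : G), x.2.1⟩ = lam x)
    {θ : N → ℂ} (hθ : IsIrrCharacter N θ) (hinv : ∀ g : G, conjFun N g θ = θ) :
    ∃ χ : G → ℂ, IsIrrCharacter G χ ∧ ∀ x : N, χ x = θ x := by
  classical
  haveI : Fintype N := Fintype.ofFinite _
  obtain ⟨E, φ, hEl, hEN, hφ, -, hm⟩ := exists_elementary N hind hθ hinv
  obtain ⟨n, ρ, hρ, rfl⟩ := hφ
  haveI := hρ
  haveI : Fintype ↥(E ⊓ N) := Fintype.ofFinite _
  obtain ⟨ψ, hψ⟩ := exists_rep_extend N hind P hcent hlin E hEl ρ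
  refine exists_extension N hind hθ hinv E hEN ψ fun h => hm ?_
  convert h using 3
  rename_i d
  simp only [Representation.character, hψ]

end Cfsg.Agent.DadeExtend
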