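import Cfsg.Agent.Lib.CT.Brauer
import Cfsg.Agent.Lib.CT.Clifford
import Cfsg.Agent.Lib.Basics.Tools
import Mathlib.GroupTheory.Sylow

/-!
# An elementary subgroup for an invariant character over a normal subgroup of `p`-power index
-/

set_option autoImplicit false
set_option linter.style.haveILetI false
set_option linter.unusedSectionVars false

namespace Cfsg.Agent.DadeExtend

open Cfsg.Agent.CT

open scoped ComplexConjugate

universe u

variable {G : Type u} [Group G] [Fintype G]

/-- Summing an invariant function against an induced function. -/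
theorem sum_indFun (E N : Subgroup G) [N.Normal] [Fintype N] [Fintype ↥(E ⊓ N)]
    (F : N → ℂ) (hF : ∀ g : G, conjFun N g F = F) (η : E → ℂ) :
    (Nat.card E : ℂ) * ∑ n : N, indFun E η n * F n =
      (Nat.card G : ℂ) * ∑ d : ↥(E ⊓ N), η ⟨d, d.2.1⟩ * F ⟨d, d.2.2⟩ := by
  classical
  have hE : (Nat.card E : ℂ) ≠ 0 := Nat.cast_ne_zero.mpr Nat.card_pos.ne'
  have hbase : ∑ n : N, extendByZero E η (n : G) * F n =
      ∑ d : ↥(E ⊓ N), η ⟨d, d.2.1⟩ * F ⟨d, d.2.2⟩ := by
    rw [← Finset.sum_filter_of_ne (p := fun n : N => (n : G) ∈ E)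
      (fun n _ hn => by_contra fun h => hn (by rw [extendByZero_not_mem E η h, zero_mul]))]
    refine Finset.sum_bij' (fun n hn => (⟨n, (Finset.mem_filter.mp hn).2, n.2⟩ : ↥(E ⊓ N)))
      (fun d _ => (⟨d, d.2.2⟩ : N)) (fun _ _ => Finset.mem_univ _) (fun d _ => Finset.mem_filter.mpr ⟨Finset.mem_univ _, d.2.1⟩)
      (fun _ _ => rfl) (fun _ _ => rfl) fun n hn => ?_
    rw [extendByZero_mem E η (Finset.mem_filter.mp hn).2]
  have hx : ∀ x : G, ∑ n : N, extendByZero E η (x⁻¹ * n * x) * F n =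
      ∑ n : N, extendByZero E η (n : G) * F n := by
    intro x
    refine Fintype.sum_equiv (MulAut.conjNormal x⁻¹).toEquiv _ _ fun n => ?_
    have h := congrFun (hF x⁻¹) n
    have e : ((MulAut.conjNormal x⁻¹ n : N) : G) = x⁻¹ * n * x := by simp
    simp only [MulEquiv.toEquiv_eq_coe, MulEquiv.coe_toEquiv]
    rw [e]
    congr 1
    exact h.symm.trans (congrArg F (Subtype.ext (by simp)))
  calc (Nat.card E : ℂ) * ∑ n : N, indFun E η n * F n
      = ∑ n : N, ∑ x : G, extendByZero E η (x⁻¹ * n * x) * F n := by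
        rw [Finset.mul_sum]
        refine Finset.sum_congr rfl fun n _ => ?_
        rw [indFun, ← mul_assoc, ← mul_assoc, mul_inv_cancel₀ hE, one_mul, Finset.sum_mul]
    _ = _ := by
        rw [Finset.sum_comm, Finset.sum_congr rfl fun x _ => (hx x).trans hbase, Finset.sum_const,
          Finset.card_univ, nsmul_eq_mul, Nat.card_eq_fintype_card]

theorem sigma_fin_ext {α : Type u} {f : α → ℕ} {s t : Σ a : α, Fin (f a)} (h : s.1 = t.1)
    (h' : (s.2 : ℕ) = (t.2 : ℕ)) : s = t := by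
  obtain ⟨a, i⟩ := s
  obtain ⟨b, j⟩ := t
  obtain rfl : a = b := h
  exact congrArg (Sigma.mk a) (Fin.ext h')

/-- A weighted count modulo `p` under a `p`-group. -/
theorem dvd_sum_of_fixed {p : ℕ} [hp : Fact p.Prime] {Q : Type u} [Group Q] (hQ : IsPGroup p Q)
    {α : Type u} [Fintype α] [MulAction Q α] (f : α → ℕ) (hinv : ∀ (x : Q) a, f (x • a) = f a)
    (hfix : ∀ a ∈ MulAction.fixedPoints Q α, p ∣ f a) : p ∣ ∑ a, f a := by
  classical
  let X := Σ a : α, Fin (f a)
  letI : MulAction Q X :=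
    { smul := fun x s => ⟨x • s.1, Fin.cast (hinv x s.1).symm s.2⟩
      one_smul := fun s => sigma_fin_ext (one_smul Q s.1) rfl
      mul_smul := fun x y s => sigma_fin_ext (mul_smul x y s.1) rfl }
  have h1 : Nat.card X = ∑ a, f a := by
    rw [Nat.card_eq_fintype_card, Fintype.card_sigma]; simp
  have hfp : ∀ s : X, s ∈ MulAction.fixedPoints Q X ↔ s.1 ∈ MulAction.fixedPoints Q α := by
    intro s
    constructor
    · intro h x; exact congrArg Sigma.fst (h x)
    · intro h x
      exact sigma_fin_ext (h x) rfl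
  have h2 : Nat.card (MulAction.fixedPoints Q X) =
      ∑ a : MulAction.fixedPoints Q α, f a := by
    rw [Nat.card_congr (Equiv.subtypeEquivRight hfp), Nat.card_congr
      (Equiv.subtypeSigmaEquiv (fun a => Fin (f a)) (fun a => a ∈ MulAction.fixedPoints Q α)),
      Nat.card_eq_fintype_card, Fintype.card_sigma]
    simp
  have h3 := hQ.card_modEq_card_fixedPoints X
  rw [h1] at h3
  refine h3.dvd_iff dvd_rfl |>.mpr ?_
  rw [h2]
  exact Finset.dvd_sum fun a _ => hfix _ a.2

variable {p : ℕ} [hp : Fact p.Prime] (N : Subgroup G) [hN : N.Normal]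

/-- The central cyclic part of an elementary subgroup lies in `N`. -/
theorem coe_mem_of_coprime (hind : ∃ k : ℕ, N.index = p ^ k) {y : G}
    (hy : (orderOf y).Coprime p) : y ∈ N := by
  obtain ⟨k, hk⟩ := hind
  have h1 : orderOf (QuotientGroup.mk' N y) ∣ p ^ k := by
    rw [← hk, Subgroup.index_eq_card]; exact orderOf_dvd_natCard _
  have h2 : orderOf (QuotientGroup.mk' N y) ∣ orderOf y := orderOf_map_dvd _ y
  have h := Nat.eq_one_of_dvd_coprimes (hy.symm.pow_left k) h1 h2
  exact (QuotientGroup.eq_one_iff y).mp (orderOf_eq_one_iff.mp h)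

/-- The decomposition of an elementary group. -/
theorem elementary_decomp {E : Type u} [Group E] [Finite E] {x : E}
    (hcop : (orderOf x).Coprime p) {k : ℕ} (hk : (Subgroup.zpowers x).index = p ^ k) (S : Sylow p E) :
    Function.Bijective fun yi : ↥(S : Subgroup E) × ↥(Subgroup.zpowers x) => (yi.1 : E) * (yi.2 : E) := by
  have hC : Nat.card (Subgroup.zpowers x) = orderOf x := Nat.card_zpowers x
  have hE : orderOf x * p ^ k = Nat.card E := by
    rw [← hk, ← hC]; exact Subgroup.card_mul_index _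
  have hS : Nat.card (S : Subgroup E) = p ^ k := by
    rw [show Nat.card (S : Subgroup E) = Nat.card S from rfl, S.card_eq_multiplicity, ← hE,
      Nat.factorization_mul (orderOf_pos x).ne' (pow_pos hp.out.pos k).ne', Finsupp.add_apply,
      Nat.factorization_eq_zero_of_not_dvd (fun h => hp.out.coprime_iff_not_dvd.mp hcop.symm h),
      hp.out.factorization_pow, Finsupp.single_eq_same, zero_add]
  exact Subgroup.isComplement'_of_coprime (by rw [hS, hC, mul_comm]; exact hE)
    (by rw [hS, hC]; exact hcop.symm.pow_left k)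

variable [Fintype N]

theorem card_eq_of_sup {E : Subgroup G} :
    ∃ i : ℕ, i = (E ⊔ N).index ∧
      Nat.card G * Nat.card ↥(E ⊓ N) = Nat.card E * Nat.card N * i := by
  refine ⟨_, rfl, ?_⟩
  have h := Basics.card_mul_card_eq_card_sup_mul_card_inf (N := N) (H := E)
    (by rw [Subgroup.normalizer_eq_top]; exact le_top)
  rw [sup_comm N E, inf_comm N E] at h
  calc Nat.card G * Nat.card ↥(E ⊓ N)
      = Nat.card ↥(E ⊔ N) * (E ⊔ N).index * Nat.card ↥(E ⊓ N) := by rw [Subgroup.card_mul_index]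
    _ = Nat.card ↥(E ⊔ N) * Nat.card ↥(E ⊓ N) * (E ⊔ N).index := by ring
    _ = _ := by rw [← h, mul_comm (Nat.card N)]

/-- Dade's elementary subgroup. -/
theorem exists_elementary (hind : ∃ k : ℕ, N.index = p ^ k) {θ : N → ℂ}
    (hθ : IsIrrCharacter N θ) (hinv : ∀ g : G, conjFun N g θ = θ) :
    ∃ (E : Subgroup G) (φ : ↥(E ⊓ N) → ℂ), IsElementary p E ∧ E ⊔ N = ⊤ ∧
      IsIrrCharacter ↥(E ⊓ N) φ ∧
      (∀ (g : G) (_hg : g ∈ E) (x : ↥(E ⊓ N)) (h : g * x * g⁻¹ ∈ E ⊓ N), φ ⟨g * x * g⁻¹, h⟩ = φ x) ∧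
      ∀ [Fintype ↥(E ⊓ N)], ¬ p ∣ mult (fun d : ↥(E ⊓ N) => θ ⟨d, d.2.2⟩) φ := by
  classical
  set F : N → ℂ := fun n => θ n * conj (θ n) with hF
  have hFinv : ∀ g, conjFun N g F = F := fun g => funext fun n => by
    show θ _ * conj (θ _) = θ n * conj (θ n)
    have h : θ _ = θ n := congrFun (hinv g) n
    rw [h]
  let good : Subgroup G → Prop := fun E => IsElementary p E ∧ E ⊔ N = ⊤ ∧ ∃ η : E → ℂ,
    IsCharacter E η ∧ ¬ p ∣ mult (fun d : ↥(E ⊓ N) => η ⟨d, d.2.1⟩ * θ ⟨d, d.2.2⟩)
      (fun d : ↥(E ⊓ N) => θ ⟨d, d.2.2⟩)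
  obtain ⟨E, hEl, hEN, η, hη, hpη⟩ : ∃ E, good E := by
    by_contra hno
    push Not at hno
    obtain ⟨m, hm, hmem⟩ := brauer_local (G := G) hp.out
    let L : (G → ℂ) → ℂ := fun f => (Nat.card N : ℂ)⁻¹ * ∑ n : N, f n * F n
    have hL : ∀ f ∈ elemGen p G, ∃ z : ℤ, L f = ((p : ℤ) * z : ℤ) := by
      intro f hf
      induction hf using AddSubgroup.closure_induction with
      | mem f hf =>
        obtain ⟨E, η, hEl, hη, rfl⟩ := hf
        set D := E ⊓ N
        have hres : IsCharacter D fun d : D => θ ⟨d, d.2.2⟩ :=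
          isCharacter_comp (Subgroup.inclusion (inf_le_right : D ≤ N)) (isCharacter_of_isIrr hθ)
        have hresη : IsCharacter D fun d : D => η ⟨d, d.2.1⟩ * θ ⟨d, d.2.2⟩ :=
          isCharacter_mul (isCharacter_comp (Subgroup.inclusion (inf_le_left : D ≤ E)) hη) hres
        obtain ⟨i, hi, hcard⟩ := card_eq_of_sup (N := N) (E := E)
        set k := mult (fun d : D => η ⟨d, d.2.1⟩ * θ ⟨d, d.2.2⟩) (fun d : D => θ ⟨d, d.2.2⟩)
          with hk
        have hkspec := mult_spec hresη hres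
        have hval : L (indFun E η) = ((i * k : ℕ) : ℂ) := by
          have h1 := sum_indFun E N F hFinv η
          have h2 : (∑ d : D, η ⟨d, d.2.1⟩ * F ⟨d, d.2.2⟩) = (Nat.card D : ℂ) * k := by
            rw [hk, ← hkspec]
            unfold classInner
            rw [← mul_assoc, mul_inv_cancel₀ (Nat.cast_ne_zero.mpr Nat.card_pos.ne'), one_mul]
            exact Finset.sum_congr rfl fun d _ => by simp only [hF]; ring
          rw [h2] at h1
          have hc : (Nat.card G : ℂ) * Nat.card D = Nat.card E * Nat.card N * (i : ℂ) := by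
            exact_mod_cast hcard
          have hE : (Nat.card E : ℂ) ≠ 0 := Nat.cast_ne_zero.mpr Nat.card_pos.ne'
          have hN' : (Nat.card N : ℂ) ≠ 0 := Nat.cast_ne_zero.mpr Nat.card_pos.ne'
          refine mul_left_cancel₀ (mul_ne_zero hE hN') ?_
          show (Nat.card E : ℂ) * Nat.card N *
            ((Nat.card N : ℂ)⁻¹ * ∑ n : N, indFun E η n * F n) = _
          calc (Nat.card E : ℂ) * Nat.card N * ((Nat.card N : ℂ)⁻¹ * ∑ n : N, indFun E η n * F n)
              = (Nat.card E : ℂ) * ∑ n : N, indFun E η n * F n := by field_simp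
            _ = (Nat.card G : ℂ) * Nat.card D * k := by rw [h1]; ring
            _ = _ := by rw [hc]; push_cast; ring
        have hdvd : p ∣ i * k := by
          by_cases htop : E ⊔ N = ⊤
          · exact dvd_mul_of_dvd_right (by
              by_contra h
              exact (hno E) ⟨hEl, htop, η, hη, h⟩) i
          · refine dvd_mul_of_dvd_left ?_ k
            obtain ⟨c, hc⟩ := hind
            have h3 : i ∣ p ^ c := hc ▸ hi ▸ Subgroup.index_dvd_of_le le_sup_right
            obtain ⟨j, -, hj⟩ := (Nat.dvd_prime_pow hp.out).mp h3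
            rcases j with _ | j
            · exact absurd (Subgroup.index_eq_one.mp (hi ▸ hj.trans (pow_zero p))) htop
            · exact hj ▸ dvd_pow_self p j.succ_ne_zero
        obtain ⟨z, hz⟩ := hdvd
        exact ⟨z, by rw [hval, hz]; push_cast; rfl⟩
      | zero => exact ⟨0, by simp [L]⟩
      | add a b _ _ iha ihb =>
        obtain ⟨za, hza⟩ := iha
        obtain ⟨zb, hzb⟩ := ihb
        refine ⟨za + zb, ?_⟩
        show (Nat.card N : ℂ)⁻¹ * _ = _
        simp only [Pi.add_apply, add_mul, Finset.sum_add_distrib, mul_add]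
        rw [show (Nat.card N : ℂ)⁻¹ * ∑ n : N, a n * F n = L a from rfl,
          show (Nat.card N : ℂ)⁻¹ * ∑ n : N, b n * F n = L b from rfl, hza, hzb]
        push_cast; ring
      | neg a _ iha =>
        obtain ⟨za, hza⟩ := iha
        refine ⟨-za, ?_⟩
        show (Nat.card N : ℂ)⁻¹ * _ = _
        simp only [Pi.neg_apply, neg_mul, Finset.sum_neg_distrib, mul_neg]
        rw [show (Nat.card N : ℂ)⁻¹ * ∑ n : N, a n * F n = L a from rfl, hza]
        push_cast; ring
    obtain ⟨z, hz⟩ := hL _ hmem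
    apply hm
    have hone : L (fun _ : G => (m : ℂ)) = (m : ℂ) := by
      show (Nat.card N : ℂ)⁻¹ * ∑ n : N, (m : ℂ) * F n = _
      rw [← Finset.mul_sum, mul_left_comm,
        show (Nat.card N : ℂ)⁻¹ * ∑ n : N, F n = classInner θ θ from rfl, irr_inner_self hθ, mul_one]
    rw [hone] at hz
    exact ⟨z, by exact_mod_cast hz⟩
  -- the `p`-part of `E` acts on constituents
  set D := E ⊓ N with hD
  have hres : IsCharacter D fun d : D => θ ⟨d, d.2.2⟩ :=
    isCharacter_comp (Subgroup.inclusion (inf_le_right : D ≤ N)) (isCharacter_of_isIrr hθ)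
  have hηD : IsCharacter D fun d : D => η ⟨d, d.2.1⟩ :=
    isCharacter_comp (Subgroup.inclusion (inf_le_left : D ≤ E)) hη
  obtain ⟨x, hxc, hxcop, k, hxk⟩ := hEl
  obtain ⟨S⟩ := (inferInstance : Nonempty (Sylow p E))
  have hmemD : ∀ g : E, ∀ d : D, (g : G) * d * (g : G)⁻¹ ∈ D := fun g d =>
    ⟨E.mul_mem (E.mul_mem g.2 d.2.1) (E.inv_mem g.2), hN.conj_mem _ d.2.2 _⟩
  let cj : E → D →* D := fun g =>
    { toFun := fun d => ⟨(g : G) * d * (g : G)⁻¹, hmemD g d⟩
      map_one' := Subtype.ext (by simp)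
      map_mul' := fun a b => Subtype.ext (by simp [mul_assoc]) }
  have hcjbij : ∀ g, Function.Bijective (cj g) := fun g =>
    Finite.injective_iff_bijective.mp fun a b h =>
      Subtype.ext (mul_left_cancel (mul_right_cancel (congrArg (fun t : D => (t : G)) h)))
  let A : E → IrrCharacter D → IrrCharacter D := fun g ψ =>
    ⟨fun d => (ψ : D → ℂ) (cj g⁻¹ d), isIrrCharacter_comp (cj g⁻¹) (hcjbij g⁻¹).2 ψ.2⟩
  letI : MulAction (S : Subgroup E) (IrrCharacter D) :=
    { smul := fun s ψ => A (s : E) ψ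
      one_smul := fun ψ => Subtype.ext (funext fun d => congrArg (ψ : D → ℂ) (Subtype.ext (by
        simp [cj])))
      mul_smul := fun s t ψ => Subtype.ext (funext fun d => congrArg (ψ : D → ℂ) (Subtype.ext (by
        simp [cj, mul_assoc]))) }
  have hinner : ∀ (g : E) (a b : D → ℂ),
      classInner (fun d => a (cj g d)) (fun d => b (cj g d)) = classInner a b := by
    intro g a b
    unfold classInner
    congr 1
    exact Fintype.sum_equiv (Equiv.ofBijective _ (hcjbij g)) _ _ fun d => rfl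
  have hmult_eq : ∀ (g : E) (a : D → ℂ), IsCharacter D a → (∀ d, a (cj g d) = a d) →
      ∀ ψ : IrrCharacter D, mult a (fun d => (ψ : D → ℂ) (cj g d)) = mult a (ψ : D → ℂ) := by
    intro g a _ hag ψ
    unfold mult
    conv_lhs => rw [show a = fun d => a (cj g d) from (funext hag).symm, hinner]
  have hθcj : ∀ (g : E) (d : D),
      θ ⟨(cj g d : D), (cj g d).2.2⟩ = θ ⟨d, d.2.2⟩ := fun g d =>
    congrFun (hinv g) ⟨d, d.2.2⟩
  have hηcj : ∀ (g : E) (d : D), η ⟨(cj g d : D), (cj g d).2.1⟩ = η ⟨d, d.2.1⟩ := fun g d => by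
    have := isClassFunction_of_isCharacter hη ⟨d, d.2.1⟩ g
    exact Eq.trans (congrArg η (Subtype.ext rfl)) this
  set mu : IrrCharacter D → ℕ := fun ψ => mult (fun d : D => θ ⟨d, d.2.2⟩) (ψ : D → ℂ) with hmu
  set cc : IrrCharacter D → IrrCharacter D → ℕ := fun a b =>
    mult (fun d : D => η ⟨d, d.2.1⟩ * (a : D → ℂ) d) (b : D → ℂ) with hcc
  have hmuinv : ∀ (g : E) ψ, mu (A g ψ) = mu ψ := fun g ψ =>
    hmult_eq g⁻¹ _ hres (hθcj g⁻¹) ψ
  have hccinv : ∀ (g : E) a b, cc (A g a) (A g b) = cc a b := by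
    intro g a b
    simp only [hcc, mult]
    congr 2
    rw [← hinner g⁻¹ (fun d : D => η ⟨d, d.2.1⟩ * (a : D → ℂ) d) (b : D → ℂ)]
    congr 1
    funext d
    exact congrArg₂ (· * ·) (hηcj g⁻¹ d).symm rfl
  obtain ⟨φ, hφfix, hφp⟩ : ∃ φ : IrrCharacter D,
      φ ∈ MulAction.fixedPoints (S : Subgroup E) (IrrCharacter D) ∧ ¬ p ∣ mu φ := by
    by_contra hno
    push Not at hno
    apply hpη
    have hexp : mult (fun d : D => η ⟨d, d.2.1⟩ * θ ⟨d, d.2.2⟩) (fun d : D => θ ⟨d, d.2.2⟩) =
        ∑ ab : IrrCharacter D × IrrCharacter D, mu ab.1 * mu ab.2 * cc ab.1 ab.2 := by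
      have h := mult_spec (isCharacter_mul hηD hres) hres
      have h' : classInner (fun d : D => η ⟨d, d.2.1⟩ * θ ⟨d, d.2.2⟩) (fun d : D => θ ⟨d, d.2.2⟩) =
          ((∑ ab : IrrCharacter D × IrrCharacter D, mu ab.1 * mu ab.2 * cc ab.1 ab.2 : ℕ) : ℂ) := by
        have e1 : (fun d : D => η ⟨d, d.2.1⟩ * θ ⟨d, d.2.2⟩) =
            ∑ a : IrrCharacter D, (mu a : ℂ) • (fun d : D => η ⟨d, d.2.1⟩ * (a : D → ℂ) d) := by
          funext d
          have := congrFun (character_eq_sum hres) d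
          simp only [Finset.sum_apply, Pi.smul_apply, smul_eq_mul] at this ⊢
          rw [this, Finset.mul_sum]
          exact Finset.sum_congr rfl fun a _ => by ring
        rw [e1]
        conv_lhs => arg 2; rw [character_eq_sum hres]
        rw [classInner_sum_left, Fintype.sum_prod_type, Nat.cast_sum]
        refine Finset.sum_congr rfl fun a _ => ?_
        rw [classInner_smul_left, classInner_sum_right, Finset.mul_sum, Nat.cast_sum]
        refine Finset.sum_congr rfl fun b _ => ?_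
        have hab : classInner (fun d : D => η ⟨d, d.2.1⟩ * (a : D → ℂ) d) (b : D → ℂ) =
            (mult (fun d : D => η ⟨d, d.2.1⟩ * (a : D → ℂ) d) (b : D → ℂ) : ℂ) :=
          mult_spec (isCharacter_mul hηD (isCharacter_of_isIrr a.2)) (isCharacter_of_isIrr b.2)
        rw [classInner_smul_right, Complex.conj_natCast, hab]
        simp only [hcc, hmu]
        push_cast
        ring
      exact_mod_cast h.symm.trans h'
    rw [hexp]
    refine dvd_sum_of_fixed S.2 _ (fun s ab => ?_) fun ab hab => ?_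
    · show mu (A s ab.1) * mu (A s ab.2) * cc (A s ab.1) (A s ab.2) = _
      rw [hmuinv, hmuinv, hccinv]
    · exact dvd_mul_of_dvd_left (dvd_mul_of_dvd_left
        (hno ab.1 fun s => congrArg Prod.fst (hab s)) _) _
  refine ⟨E, φ, ⟨x, hxc, hxcop, k, hxk⟩, hEN, φ.2, fun g hg d h => ?_, fun {inst} => ?_⟩
  · obtain ⟨⟨s, c⟩, hsc⟩ := (elementary_decomp hxcop hxk S).2 ⟨g, hg⟩
    have hc : ((c : E) : G) * d = d * (c : E) := congrArg (fun e : E => (e : G))
      (Subgroup.mem_center_iff.mp (Subgroup.zpowers_le.mpr hxc c.2) ⟨d, d.2.1⟩).symm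
    have hge : g = ((s : E) : G) * ((c : E) : G) := (congrArg (fun e : E => (e : G)) hsc).symm
    have hfix := congrFun (congrArg Subtype.val (hφfix s⁻¹)) d
    refine Eq.trans (congrArg (φ : D → ℂ) (Subtype.ext ?_)) hfix
    show g * d * g⁻¹ = _
    rw [hge]
    simp only [mul_inv_rev]
    calc ((s : E) : G) * ((c : E) : G) * d * (((c : E) : G)⁻¹ * ((s : E) : G)⁻¹)
        = ((s : E) : G) * (((c : E) : G) * d) * ((c : E) : G)⁻¹ * ((s : E) : G)⁻¹ := by group
      _ = ((s : E) : G) * d * ((s : E) : G)⁻¹ := by rw [hc]; group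
      _ = _ := by simp [cj]
  · have e : inst = Fintype.ofFinite _ := Subsingleton.elim _ _
    subst e
    convert hφp using 3

end Cfsg.Agent.DadeExtend
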