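import Cfsg.Agent.Lib.CT.DadeExtend.Elementary
import Cfsg.Agent.Lib.CT.Extend

/-!
# Extension of an invariant character from the determinant of a multiplicity space
-/

set_option autoImplicit false
set_option linter.style.haveILetI false
set_option linter.unusedSectionVars false

namespace Cfsg.Agent.DadeExtend

open Cfsg.Agent.CT
open Module Representation

universe u

variable {G : Type u} [Group G] [Fintype G] {p : ℕ} [hp : Fact p.Prime] (N : Subgroup G)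
  [hN : N.Normal] [Fintype N]

omit [Fintype G] [Fintype N] in
theorem det_twisted {V : Type} [AddCommGroup V] [Module ℂ V] (A B C : Module.End ℂ V) (c : ℂ)
    (h : A * B = c • C) :
    LinearMap.det A * LinearMap.det B = c ^ Module.finrank ℂ V * LinearMap.det C := by
  rw [← map_mul, h, LinearMap.det_smul]

variable {t : ℕ} (τ : Representation ℂ N (Fin t → ℂ)) {P : G → (Module.End ℂ (Fin t → ℂ))ˣ}
  {α : G → G → ℂˣ}

set_option maxHeartbeats 200000 in
/-- The determinant of twisted conjugation on the space of intertwiners. -/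
theorem exists_det_fun (hP : IsProjExt N τ P) (hα : ∀ g h, P g * P h = scU (α g h) * P (g * h))
    (E : Subgroup G) [Fintype ↥(E ⊓ N)] {n : ℕ} (ψ : Representation ℂ E (Fin n → ℂ)) :
    ∃ (m : ℕ) (k : E → ℂ),
      mult (fun d : ↥(E ⊓ N) => τ.character ⟨d, d.2.2⟩)
        (fun d : ↥(E ⊓ N) => ψ.character ⟨d, d.2.1⟩) = m ∧
      k 1 = 1 ∧ (∀ (g : E) (d : ↥(E ⊓ N)), k (g * ⟨d, d.2.1⟩) = k g) ∧
      ∀ g h : E, k g * k h = (α (g : G) h : ℂ) ^ m * k (g * h) := by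
  classical
  let τD : Representation ℂ (↥(E ⊓ N)) (Fin t → ℂ) := τ.comp (Subgroup.inclusion (inf_le_right : E ⊓ N ≤ N))
  let ψD : Representation ℂ (↥(E ⊓ N)) (Fin n → ℂ) := ψ.comp (Subgroup.inclusion (inf_le_left : E ⊓ N ≤ E))
  let U : Submodule ℂ ((Fin n → ℂ) →ₗ[ℂ] (Fin t → ℂ)) :=
    { carrier := {F | ∀ d : (↥(E ⊓ N)), F ∘ₗ ψD d = τD d ∘ₗ F}
      add_mem' := fun {a b} ha hb d => by rw [LinearMap.add_comp, LinearMap.comp_add, ha d, hb d]
      zero_mem' := fun d => by rw [LinearMap.zero_comp, LinearMap.comp_zero]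
      smul_mem' := fun c a ha d => by rw [LinearMap.smul_comp, LinearMap.comp_smul, ha d] }
  set m := finrank ℂ U with hmdef
  have hmeq : mult (fun d : (↥(E ⊓ N)) => τ.character ⟨d, d.2.2⟩) (fun d : (↥(E ⊓ N)) => ψ.character ⟨d, d.2.1⟩) =
      m := by
    let e : IntertwiningMap ψD τD ≃ₗ[ℂ] U :=
      { toFun := fun f => ⟨f.toLinearMap, f.isIntertwining'⟩
        invFun := fun F => ⟨F.1, F.2⟩
        left_inv := fun f => rfl
        right_inv := fun F => rfl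
        map_add' := fun f g => rfl
        map_smul' := fun c f => rfl }
    have h := classInner_char_char τD ψD
    rw [e.finrank_eq, ← hmdef] at h
    show ⌊(classInner τD.character ψD.character).re⌋₊ = m
    rw [h]
    simp
  -- twisted conjugation on the multiplicity space
  have hmem : ∀ (g : E) (F : U),
      ((P g : Module.End ℂ (Fin t → ℂ)) ∘ₗ F.1 ∘ₗ ψ g⁻¹) ∈ U := by
    intro g F d
    have hd : (g : G)⁻¹ * d * g ∈ E ⊓ N := ⟨E.mul_mem (E.mul_mem (E.inv_mem g.2) d.2.1) g.2,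
      by simpa using hN.conj_mem _ d.2.2 (g : G)⁻¹⟩
    set d' : (↥(E ⊓ N)) := ⟨_, hd⟩
    have h2 : ψ g⁻¹ * ψD d = ψD d' * ψ g⁻¹ := by
      show ψ g⁻¹ * ψ _ = ψ _ * ψ g⁻¹
      rw [← map_mul, ← map_mul]
      exact congrArg ψ (Subtype.ext (by simp [d', mul_assoc]))
    have h3 : (P g : Module.End ℂ (Fin t → ℂ)) * τD d' = τD d * (P g : Module.End ℂ (Fin t → ℂ)) := by
      have h := congrArg Units.val (hP.2.2 (g : G) ⟨_, d'.2.2⟩)
      simp only [Units.val_mul, Representation.asGroupHom_apply] at h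
      refine h.trans (congrArg (fun x => τ x * (P g : Module.End ℂ (Fin t → ℂ))) (Subtype.ext ?_))
      show (g : G) * ((g : G)⁻¹ * d * g) * (g : G)⁻¹ = d
      group
    have h4 := F.2 d'
    rw [LinearMap.comp_assoc, LinearMap.comp_assoc, ← Module.End.mul_eq_comp (ψ g⁻¹), h2,
      Module.End.mul_eq_comp, ← LinearMap.comp_assoc (ψ g⁻¹), h4, LinearMap.comp_assoc,
      ← LinearMap.comp_assoc (F.1 ∘ₗ ψ g⁻¹) (τD d') (P g : Module.End ℂ (Fin t → ℂ)),
      ← Module.End.mul_eq_comp (P g : Module.End ℂ (Fin t → ℂ)), h3, Module.End.mul_eq_comp,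
      LinearMap.comp_assoc]
  obtain ⟨R, hRval⟩ : ∃ R : E → Module.End ℂ U, ∀ (g : E) (F : U),
      (R g F).1 = (P g : Module.End ℂ (Fin t → ℂ)) ∘ₗ F.1 ∘ₗ ψ g⁻¹ := by
    refine ⟨fun g =>
      { toFun := fun F => ⟨_, hmem g F⟩
        map_add' := fun a b => Subtype.ext (by
          show _ ∘ₗ (a.1 + b.1) ∘ₗ _ = _
          rw [LinearMap.add_comp, LinearMap.comp_add]; rfl)
        map_smul' := fun c a => Subtype.ext (by
          show _ ∘ₗ (c • a.1) ∘ₗ _ = _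
          rw [LinearMap.smul_comp, LinearMap.comp_smul]; rfl) }, fun g F => rfl⟩
  have hRd : ∀ (g : E) (d : ↥(E ⊓ N)), R (g * ⟨d, d.2.1⟩) = R g := by
    intro g d
    refine LinearMap.ext fun F => Subtype.ext ?_
    rw [hRval, hRval, Subgroup.coe_mul, hP.2.1 (g : G) ⟨d, d.2.2⟩, Units.val_mul, mul_inv_rev,
      map_mul]
    have hF : τD d ∘ₗ F.1 ∘ₗ ψ (⟨d, d.2.1⟩ : E)⁻¹ = F.1 := by
      rw [← LinearMap.comp_assoc, ← F.2 d, LinearMap.comp_assoc]
      show F.1 ∘ₗ (ψ ⟨d, d.2.1⟩ * ψ (⟨d, d.2.1⟩ : E)⁻¹) = _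
      rw [← map_mul, mul_inv_cancel, map_one]
      exact LinearMap.comp_id _
    calc ((P g : Module.End ℂ (Fin t → ℂ)) * τD d) ∘ₗ F.1 ∘ₗ
          (ψ (⟨d, d.2.1⟩ : E)⁻¹ * ψ g⁻¹)
        = (P g : Module.End ℂ (Fin t → ℂ)) ∘ₗ (τD d ∘ₗ F.1 ∘ₗ ψ (⟨d, d.2.1⟩ : E)⁻¹) ∘ₗ ψ g⁻¹ := by
          simp only [Module.End.mul_eq_comp, LinearMap.comp_assoc]
      _ = _ := by rw [hF]
  have hR1 : R 1 = 1 := LinearMap.ext fun F => Subtype.ext (by
    rw [hRval]
    show (P ((1 : E) : G) : Module.End ℂ (Fin t → ℂ)) ∘ₗ F.1 ∘ₗ ψ (1 : E)⁻¹ = F.1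
    rw [inv_one, map_one, OneMemClass.coe_one, hP.one, Units.val_one]
    rfl)
  have hRR : ∀ g h : E, R g * R h = (α (g : G) h : ℂ) • R (g * h) := by
    intro g h
    refine LinearMap.ext fun F => Subtype.ext ?_
    rw [Module.End.mul_apply, hRval, hRval, LinearMap.smul_apply, SetLike.val_smul, hRval]
    show (P g : Module.End ℂ (Fin t → ℂ)) ∘ₗ ((P h : Module.End ℂ (Fin t → ℂ)) ∘ₗ F.1 ∘ₗ ψ h⁻¹) ∘ₗ
      ψ g⁻¹ = (α (g : G) h : ℂ) • ((P ((g : G) * h) : Module.End ℂ (Fin t → ℂ)) ∘ₗ F.1 ∘ₗ ψ (g * h)⁻¹)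
    have e1 : (P g : Module.End ℂ (Fin t → ℂ)) * (P h : Module.End ℂ (Fin t → ℂ)) =
        (α (g : G) h : ℂ) • (P ((g : G) * h) : Module.End ℂ (Fin t → ℂ)) := by
      rw [← Units.val_mul, hα, Units.val_mul, coe_scU]
      rfl
    rw [mul_inv_rev, map_mul, Module.End.mul_eq_comp (ψ h⁻¹), ← LinearMap.smul_comp, ← e1]
    simp only [Module.End.mul_eq_comp, LinearMap.comp_assoc]
  have hdet := fun g h : E =>
    det_twisted (V := U) (R g) (R h) (R (g * h)) (α (g : G) h : ℂ) (hRR g h)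
  exact ⟨m, fun g => LinearMap.det (M := U) (R g), hmeq,
    (congrArg (LinearMap.det (M := U)) hR1).trans (map_one _),
    fun g d => congrArg (LinearMap.det (M := U)) (hRd g d), hdet⟩

/-- Such a function kills the corresponding power of the cocycle. -/
theorem mem_cocyclePowers (hP : IsProjExt N τ P) (hα : ∀ g h, P g * P h = scU (α g h) * P (g * h))
    [Nontrivial (Fin t → ℂ)] (E : Subgroup G) (hEN : E ⊔ N = ⊤) (m : ℕ) (k : E → ℂ) (hk1 : k 1 = 1)
    (hkd : ∀ (g : E) (d : ↥(E ⊓ N)), k (g * ⟨d, d.2.1⟩) = k g)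
    (hk : ∀ g h : E, k g * k h = (α (g : G) h : ℂ) ^ m * k (g * h)) :
    (m : ℤ) ∈ cocyclePowers N α := by
  have hne : ∀ g : E, k g ≠ 0 := by
    intro g h0
    have h := hk g g⁻¹
    rw [h0, zero_mul, mul_inv_cancel, hk1, mul_one] at h
    exact pow_ne_zero m (Units.ne_zero _) h.symm
  have hs : ∀ g : G, ∃ e : E, (e : G)⁻¹ * g ∈ N := by
    intro g
    obtain ⟨e, he, x, hx, hex⟩ := Subgroup.mem_sup_of_normal_right.mp
      (hEN ▸ Subgroup.mem_top g : g ∈ E ⊔ N)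
    exact ⟨⟨e, he⟩, by show e⁻¹ * g ∈ N; rw [← hex, inv_mul_cancel_left]; exact hx⟩
  choose s hs using hs
  let K : G → ℂˣ := fun g => Units.mk0 _ (hne (s g))
  have hsame : ∀ a b : E, (a : G)⁻¹ * b ∈ N → k a = k b := by
    intro a b h
    have := hkd a ⟨(a : G)⁻¹ * b, E.mul_mem (E.inv_mem a.2) b.2, h⟩
    rw [← this]
    exact congrArg k (Subtype.ext (by simp))
  have hαN : ∀ (a b : G) (x y : N), α (a * x) (b * y) = α a b := by
    intro a b x y
    have hb : b⁻¹ * x * b ∈ N := by simpa using hN.conj_mem _ x.2 b⁻¹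
    have e : a * x * (b * y) = a * b * ((⟨b⁻¹ * x * b, hb⟩ * y : N) : G) := by
      rw [Subgroup.coe_mul]; group
    have h1 := hα (a * x) (b * y)
    have h3 : τ.asGroupHom x * P b = P b * τ.asGroupHom ⟨b⁻¹ * x * b, hb⟩ := by
      rw [hP.left_mul, ← hP.2.1]
      exact congrArg P (by group)
    rw [e, hP.2.1, hP.2.1, hP.2.1, mul_assoc, ← mul_assoc (τ.asGroupHom x), h3, mul_assoc,
      ← map_mul, ← mul_assoc, hα, mul_assoc] at h1
    exact (scU_injective (mul_right_cancel h1)).symm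
  refine ⟨K, fun x => Units.ext ?_, fun g h => ?_⟩
  · show k (s x) = 1
    rw [← hsame 1 (s x) ?_, hk1]
    have h := N.mul_mem x.2 (N.inv_mem (hs (x : G)))
    simpa using h
  · have e : k (s g * s h) = k (s (g * h)) := by
      refine hsame _ _ ?_
      obtain ⟨x, hx⟩ : ∃ x : N, (s g : G) * x = g :=
        ⟨⟨_, hs g⟩, mul_inv_cancel_left _ _⟩
      obtain ⟨y, hy⟩ : ∃ y : N, (s h : G) * y = h :=
        ⟨⟨_, hs h⟩, mul_inv_cancel_left _ _⟩
      have hc : (s h : G)⁻¹ * x * (s h : G) ∈ N := by simpa using hN.conj_mem _ x.2 (s h : G)⁻¹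
      have h2 := N.mul_mem (N.mul_mem hc y.2) (N.inv_mem (hs (g * h)))
      have e : ((s g * s h : E) : G)⁻¹ * (s (g * h) : G) = (s h : G)⁻¹ * x * (s h : G) * y *
          ((s (g * h) : G)⁻¹ * (g * h))⁻¹ := by
        have eg : (x : G) = (s g : G)⁻¹ * g := eq_inv_mul_iff_mul_eq.mpr hx
        have eh : (y : G) = (s h : G)⁻¹ * h := eq_inv_mul_iff_mul_eq.mpr hy
        rw [Subgroup.coe_mul, eg, eh]
        group
      rw [e]
      exact h2
    have ha : α g h = α (s g : G) (s h) := by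
      have := hαN (s g : G) (s h : G) ⟨_, hs g⟩ ⟨_, hs h⟩
      rw [← this]
      congr 1 <;> simp
    rw [zpow_natCast, eq_mul_inv_iff_mul_eq]
    refine Units.ext ?_
    simp only [Units.val_mul, Units.val_pow_eq_pow_val, K, Units.val_mk0]
    rw [hk, ← e, ha]

/-- If `θ` has multiplicity prime to `p` over a character extendible to a supplement, it extends. -/
theorem exists_extension (hind : ∃ k : ℕ, N.index = p ^ k) {θ : N → ℂ} (hθ : IsIrrCharacter N θ)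
    (hinv : ∀ g : G, conjFun N g θ = θ) (E : Subgroup G) [Fintype ↥(E ⊓ N)] (hEN : E ⊔ N = ⊤)
    {n : ℕ} (ψ : Representation ℂ E (Fin n → ℂ))
    (hm : ¬ p ∣ mult (fun d : ↥(E ⊓ N) => θ ⟨d, d.2.2⟩)
      (fun d : ↥(E ⊓ N) => ψ.character ⟨d, d.2.1⟩)) :
    ∃ χ : G → ℂ, IsIrrCharacter G χ ∧ ∀ x : N, χ x = θ x := by
  classical
  obtain ⟨t, τ, hτ, rfl⟩ := hθ
  haveI := hτ
  obtain ⟨P, hP⟩ := exists_projExt τ hinv
  obtain ⟨α, hα⟩ := hP.cocycle
  haveI : Nontrivial (Fin t → ℂ) := ((isIrreducible_iff τ).mp hτ).1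
  obtain ⟨m, k, hmeq, hk1, hkd, hk⟩ := exists_det_fun N τ hP hα E ψ
  replace hm : ¬ p ∣ m := fun h => hm (dvd_trans h (dvd_of_eq hmeq.symm))
  have hmK := mem_cocyclePowers N τ hP hα E hEN m k hk1 hkd hk
  obtain ⟨Q, hQ⟩ := exists_hom_of_primes hP hα fun q hq => by
    by_cases hqp : q = p
    · exact ⟨m, fun h => hm (hqp ▸ Int.natCast_dvd_natCast.mp h), hmK⟩
    · obtain ⟨k, hk⟩ := hind
      refine ⟨N.index, fun h => hqp ?_,
        index_mem_cocyclePowers hP hα N le_rfl τ.asGroupHom fun x => rfl⟩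
      rw [Int.natCast_dvd_natCast, hk] at h
      exact (Nat.prime_dvd_prime_iff_eq hq hp.out).mp (hq.dvd_of_dvd_pow h)
  exact exists_irr_of_hom Q hQ

end Cfsg.Agent.DadeExtend
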